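import Mathlib
import Cfsg.Prelude.Def_Characters
import Cfsg.Prelude.Def_Blocks
import Cfsg.Agent.Lib.Helper17.PM2.Defs
import Cfsg.Agent.Lib.Helper14.PSL2Arith
import Cfsg.Agent.S4701

set_option autoImplicit false

/-!
# S4705-[FINAL-H] (helper17): a perfect group of order `p(p-1)(p-2)` with trivial centre and a
non-normal Sylow `p`-subgroup is `SL(2, 2^a)`, `p = 2^a + 1` (from the landed S4701).
-/

namespace Cfsg.Agent.Lib.Helper17.S4705

open Cfsg Cfsg.Agent.Lib.Helper17.PM2
open scoped ComplexConjugate MatrixGroups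

universe u

variable {G : Type u} [Group G] [Fintype G] {p : ℕ}

/-- a normal subgroup of order two is central -/
theorem normal_card_two_le_center {G : Type u} [Group G] (N : Subgroup G) (hN : N.Normal)
    (h2 : Nat.card N = 2) : N ≤ Subgroup.center G := by
  intro t ht
  rw [Subgroup.mem_center_iff]
  intro g
  by_cases ht1 : t = 1
  · subst ht1; simp
  have hconj : g * t * g⁻¹ ∈ N := hN.conj_mem t ht g
  have hne : g * t * g⁻¹ ≠ 1 := by
    intro h
    apply ht1
    have := congrArg (fun x => g⁻¹ * x * g) h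
    simpa [mul_assoc] using this
  -- `N` has exactly two elements
  have hcard : ∀ a b : N, a ≠ 1 → b ≠ 1 → a = b := by
    intro a b ha hb
    by_contra hab
    have hfin : Finite N := Nat.finite_of_card_ne_zero (by omega)
    have : Fintype N := Fintype.ofFinite N
    have h3 : 2 < Fintype.card N := by
      rw [Fintype.two_lt_card_iff]
      exact ⟨1, a, b, fun h => ha h.symm, fun h => hb h.symm, hab⟩
    rw [← Nat.card_eq_fintype_card, h2] at h3
    omega
  have := hcard ⟨g * t * g⁻¹, hconj⟩ ⟨t, ht⟩ (fun h => hne (congrArg Subtype.val h))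
    (fun h => ht1 (congrArg Subtype.val h))
  have h4 : g * t * g⁻¹ = t := congrArg Subtype.val this
  have := congrArg (fun x => x * g) h4
  simpa [mul_assoc] using this

theorem final_H (S : Setting G p)
    (hcard : Nat.card G = Nat.card (Subgroup.center G) * (p * (p - 1) * (p - 2)))
    (hZ : Subgroup.center G = ⊥) :
    ∃ (a : ℕ) (F : Type) (_ : Field F) (_ : Fintype F), p = 2 ^ a + 1 ∧
      Fintype.card F = 2 ^ a ∧ Nonempty (G ≃* Matrix.SpecialLinearGroup (Fin 2) F) := by
  have hp5 := S.h5
  have : Fact p.Prime := ⟨S.hp⟩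
  rw [hZ, Subgroup.card_bot, one_mul] at hcard
  have hdvd : p ∣ Nat.card G := by
    rw [hcard, mul_assoc]
    exact dvd_mul_right _ _
  have hbig : Nat.card G < p ^ 3 := by
    rw [hcard]
    have h1 : p - 1 < p := by omega
    have h2 : p - 2 < p := by omega
    have h3 : 0 < p - 1 := by omega
    have h4 : 0 < p := by omega
    calc p * (p - 1) * (p - 2) < p * (p - 1) * p := by
          apply Nat.mul_lt_mul_of_pos_left h2
          positivity
      _ ≤ p * p * p := by
          apply Nat.mul_le_mul_right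
          apply Nat.mul_le_mul_left
          omega
      _ = p ^ 3 := by ring
  have h2 : ∀ N : Subgroup G, N.Normal → Nat.card N ≠ 2 := by
    intro N hN hN2
    have hle := normal_card_two_le_center N hN hN2
    rw [hZ, le_bot_iff] at hle
    rw [hle, Subgroup.card_bot] at hN2
    omega
  rcases Cfsg.Agent.S4701.result S.hperf p hdvd hbig S.P S.hnn h2 with
    ⟨F, i1, i2, hF, -, ⟨e⟩⟩ | ⟨m, F, i1, i2, hF, hpm, -, ⟨e⟩⟩
  · exfalso
    have hc := Nat.card_congr e.toEquiv
    have hpsl := Cfsg.Agent.Lib.Helper14.card_PSL2_mul_gcd (F := F)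
    rw [hF] at hpsl
    have hg : Nat.gcd 2 (p - 1) = 2 := by
      apply Nat.gcd_eq_left
      have hodd : Odd p := S.hp.odd_of_ne_two (by omega)
      obtain ⟨k, hk⟩ := hodd
      omega
    rw [hg, ← hc, hcard] at hpsl
    -- `p (p-1) (p-2) * 2 = p (p-1) (p+1)`
    have h3 : 0 < p * (p - 1) := by
      have : 0 < p - 1 := by omega
      positivity
    have h4 : (p - 2) * 2 = p + 1 := by
      have : p * (p - 1) * ((p - 2) * 2) = p * (p - 1) * (p + 1) := by
        rw [← mul_assoc]; exact hpsl
      exact Nat.eq_of_mul_eq_mul_left h3 this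
    omega
  · exact ⟨m, F, i1, i2, hpm, hF, ⟨e⟩⟩

end Cfsg.Agent.Lib.Helper17.S4705
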