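import Mathlib

set_option autoImplicit false

/-!
# S4705-[P-DATA] (helper17): if `|N_G(P) : C_G(P)| = 2` for a subgroup `P` of odd prime order,
the elements of `N_G(P) ∖ C_G(P)` invert `P`.
-/

namespace Cfsg.Agent.Lib.Helper17.S4705

universe u

theorem conj_eq_inv_of_relIndex_two {G : Type u} [Group G] {p : ℕ} [hp : Fact p.Prime]
    (P : Subgroup G) (hP : Nat.card P = p)
    (hidx : (Subgroup.centralizer (P : Set G)).relIndex (Subgroup.normalizer (P : Set G)) = 2)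
    (n : G) (hn : n ∈ Subgroup.normalizer (P : Set G))
    (hnc : n ∉ Subgroup.centralizer (P : Set G)) :
    ∀ y ∈ P, n * y * n⁻¹ = y⁻¹ := by
  have hpp : p.Prime := hp.out
  have hfin : Finite P := Nat.finite_of_card_ne_zero (by rw [hP]; exact hpp.ne_zero)
  -- a generator
  have hcyc : IsCyclic ↥P := isCyclic_of_prime_card hP
  obtain ⟨g₀, hg₀⟩ := hcyc.exists_generator
  set g : G := (g₀ : G) with hg
  have hgP : g ∈ P := g₀.2
  have hpow : ∀ y ∈ P, ∃ i : ℕ, y = g ^ i := by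
    intro y hy
    have h1 : (⟨y, hy⟩ : ↥P) ∈ Subgroup.zpowers g₀ := hg₀ ⟨y, hy⟩
    rw [← mem_powers_iff_mem_zpowers] at h1
    obtain ⟨i, hi⟩ := h1
    refine ⟨i, ?_⟩
    have := congrArg Subtype.val hi
    simpa using this.symm
  have hord : orderOf g = p := by
    have h1 : orderOf g₀ = Nat.card ↥P := orderOf_eq_card_of_forall_mem_zpowers hg₀
    rw [hg, Subgroup.orderOf_coe, h1, hP]
  have hmem : ∀ y ∈ P, n * y * n⁻¹ ∈ P := fun y hy =>
    (Subgroup.mem_normalizer_iff.mp hn y).mp hy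
  obtain ⟨r, hr⟩ := hpow _ (hmem g hgP)
  have hconjpow : ∀ i : ℕ, n * g ^ i * n⁻¹ = (g ^ i) ^ r := by
    intro i
    rw [← conj_pow, hr, ← pow_mul, ← pow_mul, mul_comm]
  -- `n * n` centralizes `P`
  have hsq : n * n ∈ Subgroup.centralizer (P : Set G) := by
    have h1 : ((Subgroup.centralizer (P : Set G)).subgroupOf
        (Subgroup.normalizer (P : Set G))).index = 2 := hidx
    have h2 := Subgroup.mul_self_mem_of_index_two h1 (⟨n, hn⟩ : ↥(Subgroup.normalizer (P : Set G)))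
    rw [Subgroup.mem_subgroupOf] at h2
    exact h2
  have hrr : g ^ (r * r) = g ^ 1 := by
    have h1 : (n * n) * g * (n * n)⁻¹ = g := by
      have := (Subgroup.mem_centralizer_iff.mp hsq) g hgP
      rw [mul_inv_eq_iff_eq_mul]
      exact this.symm
    have h2 : (n * n) * g * (n * n)⁻¹ = n * (n * g * n⁻¹) * n⁻¹ := by group
    rw [h2, hr, hconjpow r, ← pow_mul] at h1
    rw [h1, pow_one]
  rw [pow_eq_pow_iff_modEq, hord] at hrr
  -- `p ∣ (r - 1) (r + 1)`
  have hdvd : (p : ℤ) ∣ ((r : ℤ) - 1) * ((r : ℤ) + 1) := by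
    have h1 : ((r * r : ℕ) : ℤ) ≡ ((1 : ℕ) : ℤ) [ZMOD (p : ℤ)] := (Int.natCast_modEq_iff).mpr hrr
    have h2 := (Int.modEq_iff_dvd.mp h1.symm)
    push_cast at h2
    have : ((r : ℤ) - 1) * ((r : ℤ) + 1) = (r : ℤ) * (r : ℤ) - 1 := by ring
    rw [this]
    exact h2
  have hpz : Prime (p : ℤ) := Nat.prime_iff_prime_int.mp hpp
  rcases hpz.dvd_or_dvd hdvd with h | h
  · -- `r ≡ 1`: `n` centralizes `P`
    exfalso
    apply hnc
    have hgr : g ^ r = g := by
      have h1 : (r : ℤ) ≡ 1 [ZMOD (p : ℤ)] := (Int.modEq_iff_dvd.mpr h).symm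
      have h2 : g ^ (r : ℤ) = g ^ (1 : ℤ) := by
        rw [zpow_eq_zpow_iff_modEq, hord]
        exact h1
      simpa using h2
    rw [Subgroup.mem_centralizer_iff]
    intro y hy
    obtain ⟨i, rfl⟩ := hpow y hy
    have h1 := hconjpow i
    rw [← pow_mul, mul_comm, pow_mul, hgr] at h1
    rw [mul_inv_eq_iff_eq_mul] at h1
    exact h1.symm
  · -- `r ≡ -1`
    have hgr : g ^ r = g⁻¹ := by
      have h1 : (r : ℤ) ≡ -1 [ZMOD (p : ℤ)] := (Int.modEq_iff_dvd.mpr (by
        rw [sub_neg_eq_add]; exact h)).symm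
      have h2 : g ^ (r : ℤ) = g ^ (-1 : ℤ) := by
        rw [zpow_eq_zpow_iff_modEq, hord]
        exact h1
      simpa using h2
    intro y hy
    obtain ⟨i, rfl⟩ := hpow y hy
    rw [hconjpow i, ← pow_mul, mul_comm, pow_mul, hgr, inv_pow]

end Cfsg.Agent.Lib.Helper17.S4705
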