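import Mathlib

set_option autoImplicit false

/-!
# S4705-[KEXP] (helper17): an exponent `k` prime to `|G|` with `g^k = g^2` on elements of odd
order and `g^k = g` on `2`-elements.
-/

namespace Cfsg.Agent.Lib.Helper17.S4705

universe u

theorem exists_exponent (G : Type u) [Group G] [Finite G] :
    ∃ k : ℕ, k.Coprime (Nat.card G) ∧ (∀ g : G, Odd (orderOf g) → g ^ k = g ^ 2) ∧
      ∀ u x : G, Commute u x → (∃ j : ℕ, orderOf u = 2 ^ j) → Odd (orderOf x) →
        (u * x) ^ k = u * x ^ 2 := by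
  have hn : Nat.card G ≠ 0 := Nat.card_pos.ne'
  obtain ⟨a, m, hm, hnam⟩ := Nat.exists_eq_two_pow_mul_odd hn
  have hcop : Nat.Coprime (2 ^ a) m := Nat.Coprime.pow_left a (Nat.coprime_two_left.mpr hm)
  obtain ⟨k, hk1, hk2⟩ := Nat.chineseRemainder hcop 1 2
  have hkm : Nat.Coprime k m := by
    have h1 : Nat.gcd k m = Nat.gcd 2 m := Nat.ModEq.gcd_eq hk2
    unfold Nat.Coprime
    rw [h1]
    exact Nat.coprime_two_left.mpr hm
  have hka : Nat.Coprime k (2 ^ a) := by
    have h1 : Nat.gcd k (2 ^ a) = Nat.gcd 1 (2 ^ a) := Nat.ModEq.gcd_eq hk1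
    unfold Nat.Coprime
    rw [h1]
    exact Nat.gcd_one_left _
  have hodd : ∀ g : G, Odd (orderOf g) → g ^ k = g ^ 2 := by
    intro g hg
    rw [pow_eq_pow_iff_modEq]
    have hdvd : orderOf g ∣ m := by
      have h1 : orderOf g ∣ 2 ^ a * m := hnam ▸ orderOf_dvd_natCard g
      have h2 : Nat.Coprime (orderOf g) (2 ^ a) :=
        Nat.Coprime.pow_right a (Nat.coprime_two_right.mpr hg)
      exact h2.dvd_of_dvd_mul_left h1
    exact hk2.of_dvd hdvd
  have htwo : ∀ u : G, (∃ j : ℕ, orderOf u = 2 ^ j) → u ^ k = u := by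
    rintro u ⟨j, hj⟩
    have h0 : u ^ k = u ^ 1 := by
      rw [pow_eq_pow_iff_modEq]
      have hdvd : orderOf u ∣ 2 ^ a := by
        have h1 : orderOf u ∣ 2 ^ a * m := hnam ▸ orderOf_dvd_natCard u
        have h2 : Nat.Coprime (orderOf u) m := by
          rw [hj]
          exact Nat.Coprime.pow_left j (Nat.coprime_two_left.mpr hm)
        exact h2.dvd_of_dvd_mul_right h1
      exact hk1.of_dvd hdvd
    rwa [pow_one] at h0
  refine ⟨k, ?_, hodd, ?_⟩
  · rw [hnam]
    exact Nat.Coprime.mul_right hka hkm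
  · intro u x hux hu hx
    rw [hux.mul_pow, htwo u hu, hodd x hx]

end Cfsg.Agent.Lib.Helper17.S4705
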