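import Mathlib
import Cfsg.Prelude.Def_Characters
import Cfsg.Prelude.Def_Blocks
import Cfsg.Agent.Lib.Helper17.PM2.Defs
import Cfsg.Agent.Lib.Helper3.CharIrr

set_option autoImplicit false

/-!
# S4705-[ORDER] (helper17): `|G| = |Z(G)| p (p-1) (p-2)` from the values of `F`.
-/

namespace Cfsg.Agent.Lib.Helper17.S4705

open Cfsg Cfsg.Agent.Lib.Helper17.PM2
open scoped ComplexConjugate

universe u

variable {G : Type u} [Group G] [Fintype G] {p : ℕ} (S : Setting G p)

theorem card_eq (hzreg : ∀ z ∈ Subgroup.center G, ¬ p ∣ orderOf z)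
    (hperp : classInner (fun g => S.ζ g ^ 2) (powFun S.k S.ζ) = 0)
    (hFc : ∀ z ∈ Subgroup.center G, S.F z = ((p : ℂ) - 2) ^ 2 * ((p : ℂ) - 1))
    (hFr : ∀ g : G, ¬ p ∣ orderOf g → g ∉ Subgroup.center G → S.F g = 0)
    (hFs : (p : ℂ) * ∑ g : G, (if p ∣ orderOf g then S.F g else 0) = 2 * (Nat.card G : ℂ)) :
    Nat.card G = Nat.card (Subgroup.center G) * (p * (p - 1) * (p - 2)) := by
  classical
  have hGne : (Nat.card G : ℂ) ≠ 0 := by exact_mod_cast Nat.card_pos.ne'
  have h5 := S.h5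
  -- the total sum of `F`
  have h1 : ∑ g : G, S.ζ g * conj (S.ζ g) = (Nat.card G : ℂ) := by
    have h := Cfsg.Agent.Lib.Helper3.classInner_irrCharacter S.hζ S.hζ
    rw [if_pos rfl] at h
    unfold classInner at h
    rwa [inv_mul_eq_iff_eq_mul₀ hGne, mul_one] at h
  have h2 : ∑ g : G, S.ζ g ^ 2 * conj (S.ζ (g ^ S.k)) = 0 := by
    unfold classInner powFun at hperp
    rcases mul_eq_zero.mp hperp with h | h
    · exact absurd (inv_eq_zero.mp h) hGne
    · exact h
  have htot : ∑ g : G, S.F g = (Nat.card G : ℂ) := by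
    unfold Setting.F
    rw [Finset.sum_add_distrib, h1, h2, add_zero]
  -- splitting
  have hsplit : ∑ g : G, S.F g = ∑ g : G, (if p ∣ orderOf g then S.F g else 0) +
      ∑ g : G, (if g ∈ Subgroup.center G then ((p : ℂ) - 2) ^ 2 * ((p : ℂ) - 1) else 0) := by
    rw [← Finset.sum_add_distrib]
    apply Finset.sum_congr rfl
    intro g _
    by_cases hg : p ∣ orderOf g
    · have hgz : g ∉ Subgroup.center G := fun h => hzreg g h hg
      rw [if_pos hg, if_neg hgz, add_zero]
    · rw [if_neg hg, zero_add]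
      by_cases hgz : g ∈ Subgroup.center G
      · rw [if_pos hgz, hFc g hgz]
      · rw [if_neg hgz, hFr g hg hgz]
  have hcen : ∑ g : G, (if g ∈ Subgroup.center G then ((p : ℂ) - 2) ^ 2 * ((p : ℂ) - 1) else 0) =
      (Nat.card (Subgroup.center G) : ℂ) * (((p : ℂ) - 2) ^ 2 * ((p : ℂ) - 1)) := by
    rw [← Finset.sum_filter, Finset.sum_const, nsmul_eq_mul]
    congr 2
    rw [Nat.card_eq_fintype_card, Fintype.card_subtype]
  rw [htot, hcen] at hsplit
  have hpne : (p : ℂ) ≠ 0 := by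
    have : p ≠ 0 := by omega
    exact_mod_cast this
  have hp2 : (p : ℂ) - 2 ≠ 0 := by
    intro h
    have h' : (p : ℂ) = ((2 : ℕ) : ℂ) := by push_cast; linear_combination h
    have : p = 2 := by exact_mod_cast h'
    omega
  -- the equation in `ℂ`
  have heq : (Nat.card G : ℂ) =
      (Nat.card (Subgroup.center G) : ℂ) * ((p : ℂ) * ((p : ℂ) - 1) * ((p : ℂ) - 2)) := by
    have h3 : ((p : ℂ) - 2) * (Nat.card G : ℂ) = ((p : ℂ) - 2) *
        ((Nat.card (Subgroup.center G) : ℂ) * ((p : ℂ) * ((p : ℂ) - 1) * ((p : ℂ) - 2))) := by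
      have h4 : (p : ℂ) * (Nat.card G : ℂ) = (p : ℂ) *
          ∑ g : G, (if p ∣ orderOf g then S.F g else 0) + (p : ℂ) *
          ((Nat.card (Subgroup.center G) : ℂ) * (((p : ℂ) - 2) ^ 2 * ((p : ℂ) - 1))) := by
        rw [← mul_add, ← hsplit]
      rw [hFs] at h4
      linear_combination h4
    exact mul_left_cancel₀ hp2 h3
  have h1p : 1 ≤ p := by omega
  have h2p : 2 ≤ p := by omega
  have : ((Nat.card G : ℕ) : ℂ) =
      ((Nat.card (Subgroup.center G) * (p * (p - 1) * (p - 2)) : ℕ) : ℂ) := by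
    rw [heq]
    push_cast [Nat.cast_sub h1p, Nat.cast_sub h2p]
    ring
  exact_mod_cast this

end Cfsg.Agent.Lib.Helper17.S4705
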