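import Mathlib
import Cfsg.Agent.Lib.Helper75.S4504.MainLemmaEq
import Cfsg.Agent.Lib.Helper17.Burnside
import Cfsg.Agent.Lib.Helper78.BrauerHalfSsum

set_option autoImplicit false
set_option linter.unusedSectionVars false

/-!
# S4705-[P-DATA], local analysis (helper17)

An exceptional character `χ` of degree `p - 2` in a block with defect group `P` of order `p`
(`P` not normal, `χ` faithful): the sign is `δ = -1`, the root `θ` is linear and `N_G(P)`-stable,
and `|N_G(P) : C_G(P)| = 2`.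
-/

namespace Cfsg.Agent.Lib.Helper17.S4705

open Cfsg Cfsg.Agent.Lib.Helper78 Cfsg.Agent.Lib.Helper16 Cfsg.Agent.Lib.Helper3.DefOneGen
  Cfsg.Agent.Lib.Helper75.McKayOne Cfsg.Agent.Lib.Helper75.BHMods
  Cfsg.Agent.Lib.Helper75.BrauerHalf
open scoped ComplexConjugate IsMulCommutative

universe u

/-- `|N_G(P) : C_G(P)|` divides `p - 1`. -/
theorem relIndex_dvd_pred {G : Type u} [Group G] [Finite G] {p : ℕ} [hp : Fact p.Prime]
    (P : Sylow p G) (hP : Nat.card P = p) :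
    (Subgroup.centralizer ((P : Subgroup G) : Set G)).relIndex
      (Subgroup.normalizer ((P : Subgroup G) : Set G)) ∣ p - 1 := by
  have h1 := Cfsg.Agent.Lib.Helper17.relIndex_centralizer_normalizer_dvd_card_mulAut
    (P : Subgroup G)
  have hcyc : IsCyclic ↥(P : Subgroup G) := isCyclic_of_prime_card hP
  rw [IsCyclic.card_mulAut, show Nat.card ↥(P : Subgroup G) = p from hP,
    Nat.totient_prime hp.out] at h1
  exact h1

section Local

variable {G : Type u} [Group G] [Fintype G] {p : ℕ} [hp : Fact p.Prime] (P : Sylow p G)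
  (hP : Nat.card P = p)
variable [Fintype ↥(Subgroup.centralizer ((P : Subgroup G) : Set G))] [Fintype ↥(P : Subgroup G)]
  [IsMulCommutative ↥(P : Subgroup G)] [Fintype (↥(P : Subgroup G) →* ℂˣ)]
  [Fintype ↥(Subgroup.normalizer ((P : Subgroup G) : Set G))]
variable {M : Ideal AlgInt}

local notation "CP" => Subgroup.centralizer ((P : Subgroup G) : Set G)
local notation "NP" => Subgroup.normalizer ((P : Subgroup G) : Set G)

attribute [local instance] nAct

/-- conjugate roots have the same degree -/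
theorem thetaConj_apply_one (n : G) (hn : n ∈ NP) (θ : IrrCharacter ↥CP) :
    (thetaConj P n hn θ : ↥CP → ℂ) 1 = (θ : ↥CP → ℂ) 1 := by
  apply thetaConj_eq_of_eq P n hn θ 1 1
  simp

include hP in
open scoped Classical in
/-- The values of `Dn` for a character of degree `< p` of the block: constant on the orbit of the
root, zero off it. -/
theorem Dn_of_block (hM : IsPModular p M) (θ : IrrCharacter ↥CP) (hθ : θ ∈ Theta P)
    {B : Set (IrrCharacter G)} (hind : IsInducedBlock M CP (blockOf M (θ : ↥CP → ℂ)) B)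
    (χ : IrrCharacter G) (hχB : χ ∈ B) (hdeg : charDegree (χ : G → ℂ) < p) :
    ∀ θ' ∈ Theta P, Dn P (χ : G → ℂ) (θ' : ↥CP → ℂ) =
      if θ' ∈ MulAction.orbit ↥NP θ then Dn P (χ : G → ℂ) (θ : ↥CP → ℂ) else 0 := by
  intro θ' hθ'
  have hχc : IsCharacter G (χ : G → ℂ) := IsIrrCharacter.isCharacter χ.2
  by_cases horb : θ' ∈ MulAction.orbit ↥NP θ
  · rw [if_pos horb]
    obtain ⟨n, hn, rfl⟩ := (mem_orbit_iff P θ θ').mp horb
    exact Dn_thetaConj P (IsCharacter.isClassFunction hχc) n hn θ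
  · rw [if_neg horb]
    have hg := gq_of_root P hP hM θ hθ hind hχB θ' hθ'
    rw [if_neg horb, un_spec P hP hχc θ' hθ'] at hg
    have h1 : ((Dn P (χ : G → ℂ) (θ' : ↥CP → ℂ) : ℤ) : ℂ) =
        (((p : ℤ) * (un P (χ : G → ℂ) (θ' : ↥CP → ℂ) : ℤ) : ℤ) : ℂ) := by
      push_cast
      linear_combination -hg
    have h1' : (Dn P (χ : G → ℂ) (θ' : ↥CP → ℂ) : ℤ) =
        (p : ℤ) * (un P (χ : G → ℂ) (θ' : ↥CP → ℂ) : ℤ) := by exact_mod_cast h1
    have h3 := Dn_le_charDegree P hP hχc θ' hθ'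
    have h3' : (Dn P (χ : G → ℂ) (θ' : ↥CP → ℂ) : ℤ) < (p : ℤ) := by
      have : Dn P (χ : G → ℂ) (θ' : ↥CP → ℂ) < p := lt_of_le_of_lt h3 hdeg
      exact_mod_cast this
    have hu0 : (un P (χ : G → ℂ) (θ' : ↥CP → ℂ) : ℤ) = 0 := by
      by_contra hc
      have : (1 : ℤ) ≤ (un P (χ : G → ℂ) (θ' : ↥CP → ℂ) : ℤ) := by
        have : (0 : ℤ) ≤ (un P (χ : G → ℂ) (θ' : ↥CP → ℂ) : ℤ) := Nat.cast_nonneg _
        omega
      have hp' : (0 : ℤ) < (p : ℤ) := by exact_mod_cast hp.out.pos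
      nlinarith
    rw [hu0, mul_zero] at h1'
    exact_mod_cast h1'

include hP in
open scoped Classical in
/-- The degree formula on the orbit. -/
theorem degree_orbit (hM : IsPModular p M) (θ : IrrCharacter ↥CP) (hθ : θ ∈ Theta P)
    {B : Set (IrrCharacter G)} (hind : IsInducedBlock M CP (blockOf M (θ : ↥CP → ℂ)) B)
    (χ : IrrCharacter G) (hχB : χ ∈ B) (hdeg : charDegree (χ : G → ℂ) < p) :
    charDegree (χ : G → ℂ) =
      ((Theta P).filter (fun θ' => θ' ∈ MulAction.orbit ↥NP θ)).card *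
        (Dn P (χ : G → ℂ) (θ : ↥CP → ℂ) * charDegree (θ : ↥CP → ℂ)) := by
  have hχc : IsCharacter G (χ : G → ℂ) := IsIrrCharacter.isCharacter χ.2
  rw [charDegree_eq_sum_Dn P hP hχc]
  have h2 : ∀ θ' ∈ Theta P, Dn P (χ : G → ℂ) (θ' : ↥CP → ℂ) * charDegree (θ' : ↥CP → ℂ) =
      if θ' ∈ MulAction.orbit ↥NP θ then
        Dn P (χ : G → ℂ) (θ : ↥CP → ℂ) * charDegree (θ : ↥CP → ℂ) else 0 := by
    intro θ' hθ'
    rw [Dn_of_block P hP hM θ hθ hind χ hχB hdeg θ' hθ']
    by_cases horb : θ' ∈ MulAction.orbit ↥NP θ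
    · rw [if_pos horb, if_pos horb]
      obtain ⟨n, hn, rfl⟩ := (mem_orbit_iff P θ θ').mp horb
      congr 1
      unfold charDegree
      rw [thetaConj_apply_one]
    · rw [if_neg horb, if_neg horb, zero_mul]
  rw [Finset.sum_congr rfl h2, ← Finset.sum_filter, Finset.sum_const, smul_eq_mul]

include hP in
open scoped Classical in
/-- If the root is `N_G(P)`-stable, a character of the block is `fpart · θ(1)` on `P ∖ 1`. -/
theorem apply_P_of_card_orbit_one (hM : IsPModular p M) (θ : IrrCharacter ↥CP) (hθ : θ ∈ Theta P)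
    {B : Set (IrrCharacter G)} (hind : IsInducedBlock M CP (blockOf M (θ : ↥CP → ℂ)) B)
    (hk : ((Theta P).filter (fun θ' => θ' ∈ MulAction.orbit ↥NP θ)).card = 1)
    (χ : IrrCharacter G) (hχB : χ ∈ B) (y : ↥(P : Subgroup G)) (hy : y ≠ 1) :
    (χ : G → ℂ) (y : G) = fpart p CP (χ : G → ℂ) (θ : ↥CP → ℂ) (y : G) * (θ : ↥CP → ℂ) 1 := by
  have hχc : IsCharacter G (χ : G → ℂ) := IsIrrCharacter.isCharacter χ.2
  rw [Cfsg.Agent.Lib.Helper92.BrauerHalf.apply_eq_sum_Theta P hP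
    (IsCharacter.isClassFunction hχc) y]
  apply Finset.sum_eq_single θ
  · intro θ' hθ' hne
    have hoff : θ' ∉ MulAction.orbit ↥NP θ := by
      intro horb
      obtain ⟨θ₁, hθ₁⟩ := Finset.card_eq_one.mp hk
      have h1 : θ' ∈ (Theta P).filter (fun θ' => θ' ∈ MulAction.orbit ↥NP θ) :=
        Finset.mem_filter.mpr ⟨hθ', horb⟩
      have h2 : θ ∈ (Theta P).filter (fun θ' => θ' ∈ MulAction.orbit ↥NP θ) :=
        Finset.mem_filter.mpr ⟨hθ, MulAction.mem_orbit_self θ⟩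
      rw [hθ₁, Finset.mem_singleton] at h1 h2
      exact hne (h1.trans h2.symm)
    rw [fpart_eq_zero_off_orbit P hP hM θ hθ hind hχB θ' hθ' hoff y hy, zero_mul]
  · intro h
    exact absurd hθ h

include hP in
open scoped Classical in
theorem local_analysis (hM : IsPModular p M) (hp5 : 5 < p) (hnn : ¬ (P : Subgroup G).Normal)
    (θ : IrrCharacter ↥CP) (hθ : θ ∈ Theta P)
    {B : Set (IrrCharacter G)} (hind : IsInducedBlock M CP (blockOf M (θ : ↥CP → ℂ)) B)
    (he : 2 * (CP).relIndex (thetaStab P θ) ≤ p - 1)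
    (δ : ℤ) (hδ : δ = 1 ∨ δ = -1)
    (χ : IrrCharacter G) (hχB : χ ∈ B) (ψ₀ : ↥(P : Subgroup G) →* ℂˣ) (hψ₀ : ψ₀ ≠ 1)
    (hform : ∀ y : ↥(P : Subgroup G), y ≠ 1 →
      fpart p CP (χ : G → ℂ) (θ : ↥CP → ℂ) (y : G) = (δ : ℂ) *
        ∑ᶠ ψ' ∈ {ψ' : ↥(P : Subgroup G) →* ℂˣ | ∃ n : G, n ∈ thetaStab P θ ∧
          ∀ w w' : ↥(P : Subgroup G), (w' : G) = n * (w : G) * n⁻¹ → ψ' w' = ψ₀ w},
          ((ψ' y : ℂˣ) : ℂ))
    (hdeg : charDegree (χ : G → ℂ) = p - 2)
    (hfaith : ∀ g : G, (χ : G → ℂ) g = (χ : G → ℂ) 1 → g = 1) :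
    δ = -1 ∧ (CP).relIndex (thetaStab P θ) = 2 ∧ (CP).relIndex NP = 2 ∧
      charDegree (θ : ↥CP → ℂ) = 1 ∧
      ((Theta P).filter (fun θ' => θ' ∈ MulAction.orbit ↥NP θ)).card = 1 ∧
      Dn P (χ : G → ℂ) (θ : ↥CP → ℂ) = p - 2 := by
  have hpp : p.Prime := hp.out
  have hχc : IsCharacter G (χ : G → ℂ) := IsIrrCharacter.isCharacter χ.2
  obtain ⟨hTN, hT'⟩ := stab_iff_of_literal P θ (thetaStab P θ) (mem_thetaStab P θ)
  have hCT := centralizer_le_of_stab P hP θ (thetaStab P θ) hT'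
  obtain ⟨e, he_def⟩ : ∃ e : ℕ, (CP).relIndex (thetaStab P θ) = e := ⟨_, rfl⟩
  obtain ⟨f, hf_def⟩ : ∃ f : ℕ, (CP).relIndex NP = f := ⟨_, rfl⟩
  obtain ⟨k, hk_def⟩ : ∃ k : ℕ,
    ((Theta P).filter (fun θ' => θ' ∈ MulAction.orbit ↥NP θ)).card = k := ⟨_, rfl⟩
  obtain ⟨D, hD_def⟩ : ∃ D : ℕ, Dn P (χ : G → ℂ) (θ : ↥CP → ℂ) = D := ⟨_, rfl⟩
  obtain ⟨u, hu_def⟩ : ∃ u : ℕ, un P (χ : G → ℂ) (θ : ↥CP → ℂ) = u := ⟨_, rfl⟩
  obtain ⟨d, hd_def⟩ : ∃ d : ℕ, charDegree (θ : ↥CP → ℂ) = d := ⟨_, rfl⟩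
  have hke : k * e = f := by
    rw [← hk_def, ← he_def, ← hf_def]
    exact Cfsg.Agent.Lib.Helper78.BrauerHalfSsum.card_orbit_mul_relIndex P hP θ hθ
  have hepos : 0 < e := by
    rw [← he_def]
    apply Nat.pos_of_ne_zero
    unfold Subgroup.relIndex
    exact Subgroup.index_ne_zero_of_finite
  have hkpos : 0 < k := by
    rw [← hk_def]
    exact Finset.card_pos.mpr ⟨θ, Finset.mem_filter.mpr ⟨hθ, MulAction.mem_orbit_self θ⟩⟩
  have hdpos : 0 < d := by
    rw [← hd_def]; exact IsIrrCharacter.charDegree_pos θ.2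
  have hdegp : charDegree (χ : G → ℂ) < p := by omega
  have hdegeq := degree_orbit P hP hM θ hθ hind χ hχB hdegp
  rw [hk_def, hD_def, hd_def, hdeg] at hdegeq
  have hg := gq_exc P hP θ ψ₀ hψ₀ (χ : G → ℂ) (δ : ℂ) hform
  rw [un_spec P hP hχc θ hθ, hD_def, hu_def, he_def] at hg
  have hrel : (D : ℤ) = (p : ℤ) * (u : ℤ) + δ * (e : ℤ) := by
    have h1 : ((D : ℤ) : ℂ) = (((p : ℤ) * (u : ℤ) + δ * (e : ℤ) : ℤ) : ℂ) := by
      push_cast
      linear_combination -hg
    exact_mod_cast h1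
  have hDle : D ≤ p - 2 := by
    rw [← hD_def, ← hdeg]
    exact Dn_le_charDegree P hP hχc θ hθ
  rw [he_def] at he
  have hfdvd : f ∣ p - 1 := by
    rw [← hf_def]
    exact relIndex_dvd_pred P hP
  rcases hδ with h | h
  · -- the case `δ = 1` is impossible
    exfalso
    rw [h, one_mul] at hrel
    have hu0 : u = 0 := by
      by_contra hc
      have h1 : 1 ≤ u := Nat.one_le_iff_ne_zero.mpr hc
      have h2 : (p : ℤ) * 1 ≤ (p : ℤ) * (u : ℤ) := by
        apply mul_le_mul_of_nonneg_left _ (Int.natCast_nonneg p)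
        exact_mod_cast h1
      have h3 : (D : ℤ) ≤ (p : ℤ) - 2 := by
        have : ((D : ℕ) : ℤ) ≤ ((p - 2 : ℕ) : ℤ) := by exact_mod_cast hDle
        rw [Nat.cast_sub (by omega)] at this
        simpa using this
      have h4 : (0 : ℤ) < (e : ℤ) := by exact_mod_cast hepos
      linarith
    have hDe : D = e := by
      rw [hu0] at hrel
      have : (D : ℤ) = (e : ℤ) := by simpa using hrel
      exact_mod_cast this
    have hfd : f * d = p - 2 := by
      rw [hdegeq, hDe, ← hke]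
      ring
    have hf1 : f = 1 := by
      have h1 : f ∣ p - 2 := Dvd.intro _ hfd
      have h2 : f ∣ (p - 1) - (p - 2) := Nat.dvd_sub hfdvd h1
      have h3 : (p - 1) - (p - 2) = 1 := by omega
      rw [h3] at h2
      exact Nat.dvd_one.mp h2
    have hk1 : k = 1 := by
      rw [hf1] at hke
      exact Nat.eq_one_of_mul_eq_one_right hke
    have he1 : e = 1 := by
      rw [hf1] at hke
      exact Nat.eq_one_of_mul_eq_one_left hke
    have hd : d = p - 2 := by rw [hf1, one_mul] at hfd; exact hfd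
    -- every nontrivial element of `P` is central
    have hcen : ∀ y : ↥(P : Subgroup G), y ≠ 1 → (y : G) ∈ Subgroup.center G := by
      intro y hy
      have hval := apply_P_of_card_orbit_one P hP hM θ hθ hind (hk_def.trans hk1) χ hχB y hy
      rw [hform y hy, h] at hval
      have hcard := Cfsg.Agent.Lib.Helper78.BrauerHalfSsum.card_relT_class P hP
        (thetaStab P θ) hCT hTN hψ₀
      rw [he_def, he1] at hcard
      obtain ⟨ψ₁, hψ₁⟩ := Finset.card_eq_one.mp hcard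
      rw [Cfsg.Agent.Lib.Helper78.finsum_mem_eq_sum_filter_of_fintype] at hval
      have hfil : Finset.univ.filter (· ∈ {ψ' : ↥(P : Subgroup G) →* ℂˣ |
          ∃ n : G, n ∈ thetaStab P θ ∧
            ∀ w w' : ↥(P : Subgroup G), (w' : G) = n * (w : G) * n⁻¹ → ψ' w' = ψ₀ w}) =
          {ψ₁} := by
        rw [← hψ₁]
        ext ψ'
        simp
      rw [hfil, Finset.sum_singleton] at hval
      have hn1 : ‖((ψ₁ y : ℂˣ) : ℂ)‖ = 1 := by
        have hpow : (((ψ₁ y : ℂˣ) : ℂ)) ^ orderOf y = 1 := by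
          rw [← Units.val_pow_eq_pow_val, ← map_pow, pow_orderOf_eq_one, map_one, Units.val_one]
        exact Complex.norm_eq_one_of_pow_eq_one hpow (orderOf_pos y).ne'
      have hθ1 : (θ : ↥CP → ℂ) 1 = (d : ℂ) := by
        rw [IsCharacter.apply_one_eq_charDegree (IsIrrCharacter.isCharacter θ.2), hd_def]
      have hχ1 : (χ : G → ℂ) 1 = (d : ℂ) := by
        rw [IsCharacter.apply_one_eq_charDegree hχc, hdeg, hd]
      have hnorm : ‖(χ : G → ℂ) (y : G)‖ = ‖(χ : G → ℂ) 1‖ := by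
        rw [hval, hχ1, hθ1]
        push_cast
        rw [one_mul, norm_mul, hn1, one_mul]
      exact Cfsg.Agent.Lib.Helper80GP.mem_center_of_norm_eq χ.2 hfaith hnorm
    apply hnn
    refine ⟨fun x hx g => ?_⟩
    by_cases hx1 : x = 1
    · rw [hx1]; simp
    · have hc := hcen ⟨x, hx⟩ (fun h => hx1 (congrArg Subtype.val h))
      have hcomm : g * x = x * g := (Subgroup.mem_center_iff.mp hc g)
      rw [hcomm, mul_assoc, mul_inv_cancel, mul_one]
      exact hx
  · -- the case `δ = -1`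
    rw [h] at hrel
    have hpz : (5 : ℤ) < (p : ℤ) := by exact_mod_cast hp5
    have hez : (0 : ℤ) < (e : ℤ) := by exact_mod_cast hepos
    have he2 : 2 * (e : ℤ) ≤ (p : ℤ) - 1 := by
      have : ((2 * e : ℕ) : ℤ) ≤ ((p - 1 : ℕ) : ℤ) := by exact_mod_cast he
      rw [Nat.cast_sub (by omega)] at this
      push_cast at this
      exact this
    have hDz : (D : ℤ) ≤ (p : ℤ) - 2 := by
      have : ((D : ℕ) : ℤ) ≤ ((p - 2 : ℕ) : ℤ) := by exact_mod_cast hDle
      rw [Nat.cast_sub (by omega)] at this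
      simpa using this
    have hD0 : (0 : ℤ) ≤ (D : ℤ) := Int.natCast_nonneg _
    have hu1 : (1 : ℤ) ≤ (u : ℤ) := by
      by_contra hc
      have hu0 : (u : ℤ) = 0 := by
        have : (0 : ℤ) ≤ (u : ℤ) := Int.natCast_nonneg _
        omega
      rw [hu0] at hrel
      linarith
    have hu2 : (u : ℤ) ≤ 1 := by
      by_contra hc
      have : (2 : ℤ) ≤ (u : ℤ) := by omega
      nlinarith
    have hu : (u : ℤ) = 1 := le_antisymm hu2 hu1
    rw [hu, mul_one] at hrel
    -- `D = p - e ≥ (p + 1) / 2`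
    have hkd : k * d = 1 := by
      by_contra hc
      have hkd2 : 2 ≤ k * d := by
        have : 0 < k * d := Nat.mul_pos hkpos hdpos
        omega
      have h1 : p - 2 = (k * d) * D := by rw [hdegeq]; ring
      have h2 : 2 * D ≤ p - 2 := by
        rw [h1]
        exact Nat.mul_le_mul_right D hkd2
      have h3 : (2 : ℤ) * (D : ℤ) ≤ (p : ℤ) - 2 := by
        have : ((2 * D : ℕ) : ℤ) ≤ ((p - 2 : ℕ) : ℤ) := by exact_mod_cast h2
        rw [Nat.cast_sub (by omega)] at this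
        push_cast at this
        exact this
      linarith
    have hk1 : k = 1 := Nat.eq_one_of_mul_eq_one_right hkd
    have hd1 : d = 1 := Nat.eq_one_of_mul_eq_one_left hkd
    have hDp : D = p - 2 := by
      rw [hdegeq, hk1, hd1]; ring
    have he2' : e = 2 := by
      have h1 : (D : ℤ) = (p : ℤ) - 2 := by
        rw [hDp, Nat.cast_sub (by omega)]
        simp
      have : (e : ℤ) = 2 := by linarith
      exact_mod_cast this
    refine ⟨h, he_def.trans he2', ?_, hd_def.trans hd1, hk_def.trans hk1, hD_def.trans hDp⟩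
    rw [hf_def, ← hke, hk1, he2']

end Local

end Cfsg.Agent.Lib.Helper17.S4705
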