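import Mathlib
import Cfsg.Agent.Lib.Helper17.S4705.PDataLocal

set_option autoImplicit false
set_option linter.unusedSectionVars false

/-!
# S4705-[P-DATA], the centralizer (helper17): `C_G(P) = P Z(G)`

Adapted from the end of helper75's `main_lemma_eq_aux`.
-/

namespace Cfsg.Agent.Lib.Helper17.S4705

open Cfsg Cfsg.Agent.Lib.Helper78 Cfsg.Agent.Lib.Helper16 Cfsg.Agent.Lib.Helper3.DefOneGen
  Cfsg.Agent.Lib.Helper75.McKayOne Cfsg.Agent.Lib.Helper75.BHMods
  Cfsg.Agent.Lib.Helper75.BrauerHalf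
open scoped ComplexConjugate IsMulCommutative

universe u

section Cent

variable {G : Type u} [Group G] [Fintype G] {p : ℕ} [hp : Fact p.Prime] (P : Sylow p G)
  (hP : Nat.card P = p)
variable [Fintype ↥(Subgroup.centralizer ((P : Subgroup G) : Set G))] [Fintype ↥(P : Subgroup G)]
  [IsMulCommutative ↥(P : Subgroup G)] [Fintype (↥(P : Subgroup G) →* ℂˣ)]
  [Fintype ↥(Subgroup.normalizer ((P : Subgroup G) : Set G))]
variable {M : Ideal AlgInt}

local notation "CP" => Subgroup.centralizer ((P : Subgroup G) : Set G)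
local notation "NP" => Subgroup.normalizer ((P : Subgroup G) : Set G)

attribute [local instance] nAct

include hP in
open scoped Classical in
theorem hcent_of_local (hM : IsPModular p M) (θ : IrrCharacter ↥CP) (hθ : θ ∈ Theta P)
    {B : Set (IrrCharacter G)} (hind : IsInducedBlock M CP (blockOf M (θ : ↥CP → ℂ)) B)
    (χ : IrrCharacter G) (hχB : χ ∈ B) (hdegp : charDegree (χ : G → ℂ) < p)
    (hfaith : ∀ g : G, (χ : G → ℂ) g = (χ : G → ℂ) 1 → g = 1)
    (hk : ((Theta P).filter (fun θ' => θ' ∈ MulAction.orbit ↥NP θ)).card = 1)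
    (hd : charDegree (θ : ↥CP → ℂ) = 1)
    (hD : Dn P (χ : G → ℂ) (θ : ↥CP → ℂ) = charDegree (χ : G → ℂ)) :
    ∀ c ∈ CP, ∃ y ∈ (P : Subgroup G), ∃ z ∈ Subgroup.center G, c = y * z := by
  have hχc : IsCharacter G (χ : G → ℂ) := IsIrrCharacter.isCharacter χ.2
  have hcf : IsClassFunction G (χ : G → ℂ) := IsCharacter.isClassFunction hχc
  have hθ₀c : IsCharacter ↥CP (θ : ↥CP → ℂ) := IsIrrCharacter.isCharacter θ.2
  have hθ1 : (θ : ↥CP → ℂ) 1 = 1 := by
    rw [IsCharacter.apply_one_eq_charDegree hθ₀c, hd]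
    simp
  obtain ⟨θ₁, hθ₁⟩ := Finset.card_eq_one.mp hk
  have hθorb : θ ∈ (Theta P).filter (fun θ' => θ' ∈ MulAction.orbit ↥NP θ) :=
    Finset.mem_filter.mpr ⟨hθ, MulAction.mem_orbit_self θ⟩
  have hθ₁eq : θ₁ = θ := by
    rw [hθ₁, Finset.mem_singleton] at hθorb
    exact hθorb.symm
  rw [hθ₁eq] at hθ₁
  obtain ⟨φ, hφ⟩ := Cfsg.Agent.Lib.Helper77.exists_monoidHom_of_degree_one hθ₀c hθ1
  have hsp := ppart_spec P hP
  have hDall := Dn_of_block P hP hM θ hθ hind χ hχB hdegp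
  intro c hc
  set c' : ↥CP := ⟨c, hc⟩ with hc'
  set y : ↥(P : Subgroup G) := ppart P hP c' with hy
  set s : ↥CP := (Subgroup.inclusion (le_centralizer_of_card_prime hP) y)⁻¹ * c' with hs
  have hπs : ppart P hP s = 1 := by
    rw [hs, map_mul, map_inv, hsp.right_inv, inv_mul_cancel]
  have hsreg : ¬ p ∣ orderOf s := (hsp.ker_iff s).mp hπs
  -- the value of `χ` at `s`
  have hval : (χ : G → ℂ) (s : G) =
      (charDegree (χ : G → ℂ) : ℂ) * (θ : ↥CP → ℂ) s := by
    have h1 := apply_eq_sum_fpart P hP hcf (1 : ↥(P : Subgroup G)) s hsreg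
    rw [← Theta_eq_filter P hP, OneMemClass.coe_one, one_mul] at h1
    rw [h1]
    have h2 : ∀ θ' ∈ Theta P, fpart p CP (χ : G → ℂ) (θ' : ↥CP → ℂ) 1 * (θ' : ↥CP → ℂ) s =
        if θ' ∈ MulAction.orbit ↥NP θ then
          (charDegree (χ : G → ℂ) : ℂ) * (θ' : ↥CP → ℂ) s else 0 := by
      intro θ' hθ'
      rw [Dn_spec P hP hχc θ' hθ', hDall θ' hθ', hD]
      split_ifs <;> simp
    rw [Finset.sum_congr rfl h2, ← Finset.sum_filter, hθ₁, Finset.sum_singleton]
  have hnorm1 : ‖(θ : ↥CP → ℂ) s‖ = 1 := by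
    rw [hφ s]
    have hpow : (((φ s : ℂˣ) : ℂ)) ^ orderOf s = 1 := by
      rw [← Units.val_pow_eq_pow_val, ← map_pow, pow_orderOf_eq_one, map_one, Units.val_one]
    exact Complex.norm_eq_one_of_pow_eq_one hpow (orderOf_pos s).ne'
  have hnorm : ‖(χ : G → ℂ) (s : G)‖ = ‖(χ : G → ℂ) 1‖ := by
    rw [hval, IsCharacter.apply_one_eq_charDegree hχc, norm_mul, hnorm1, mul_one]
  have hscen : (s : G) ∈ Subgroup.center G :=
    Cfsg.Agent.Lib.Helper80GP.mem_center_of_norm_eq χ.2 hfaith hnorm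
  refine ⟨(y : G), y.2, (s : G), hscen, ?_⟩
  have h3 : c' = Subgroup.inclusion (le_centralizer_of_card_prime hP) y * s := by
    rw [hs, mul_inv_cancel_left]
  have h4 := congrArg (fun x : ↥CP => (x : G)) h3
  simpa using h4

end Cent

end Cfsg.Agent.Lib.Helper17.S4705
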