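import Mathlib
import Cfsg.Agent.Lib.Helper17.S4705.PDataCent
import Cfsg.Agent.Lib.Helper17.S4705.Inversion
import Cfsg.Agent.Lib.Helper50.S4705.PX
import Cfsg.Agent.Lib.Helper50.S4705.PBF
import Cfsg.Agent.Lib.Helper17.PM2.Defs

set_option autoImplicit false
set_option linter.unusedSectionVars false

/-!
# S4705-[P-DATA] (helper17): the local and block data of a faithful irreducible character of
degree `p - 2`.
-/

namespace Cfsg.Agent.Lib.Helper17.S4705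

open Cfsg Cfsg.Agent.Lib.Helper78 Cfsg.Agent.Lib.Helper16 Cfsg.Agent.Lib.Helper3.DefOneGen
  Cfsg.Agent.Lib.Helper75.McKayOne Cfsg.Agent.Lib.Helper75.BHMods
  Cfsg.Agent.Lib.Helper75.BrauerHalf Cfsg.Agent.Lib.Helper17.PM2 Cfsg.Agent.Lib.Helper50.S4705
open scoped ComplexConjugate IsMulCommutative

universe u

section PData

variable {G : Type u} [Group G] [Fintype G] {p : ℕ} [hp : Fact p.Prime] (P : Sylow p G)
  (hP : Nat.card P = p)
variable [Fintype ↥(Subgroup.centralizer ((P : Subgroup G) : Set G))] [Fintype ↥(P : Subgroup G)]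
  [IsMulCommutative ↥(P : Subgroup G)] [Fintype (↥(P : Subgroup G) →* ℂˣ)]
  [Fintype ↥(Subgroup.normalizer ((P : Subgroup G) : Set G))]
variable {M : Ideal AlgInt}

local notation "CP" => Subgroup.centralizer ((P : Subgroup G) : Set G)
local notation "NP" => Subgroup.normalizer ((P : Subgroup G) : Set G)

attribute [local instance] nAct

include hP in
open scoped Classical in
/-- A nonexceptional character with sign `-1` has degree at least `p - 1`. -/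
theorem degree_ge_of_neg (θ : IrrCharacter ↥CP) (hθ : θ ∈ Theta P) (χ : IrrCharacter G)
    (hval : ∀ y : ↥(P : Subgroup G), y ≠ 1 →
      fpart p CP (χ : G → ℂ) (θ : ↥CP → ℂ) (y : G) = ((-1 : ℤ) : ℂ)) :
    p - 1 ≤ charDegree (χ : G → ℂ) := by
  have hχc : IsCharacter G (χ : G → ℂ) := IsIrrCharacter.isCharacter χ.2
  have hp2 : 2 ≤ p := hp.out.two_le
  have hgq : gq P (χ : G → ℂ) (θ : ↥CP → ℂ) = -((p : ℂ) - 1) := by
    unfold gq
    rw [Finset.sum_congr rfl (fun y hy => hval y (Finset.mem_filter.mp hy).2), Finset.sum_const,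
      Cfsg.Agent.Lib.Helper92.BrauerHalf.card_filter_ne_one P hP, nsmul_eq_mul,
      Nat.cast_sub (by omega)]
    push_cast
    ring
  have h1 := un_spec P hP hχc θ hθ
  rw [hgq] at h1
  have h2 : ((Dn P (χ : G → ℂ) (θ : ↥CP → ℂ) : ℤ) : ℂ) =
      (((p : ℤ) * (un P (χ : G → ℂ) (θ : ↥CP → ℂ) : ℤ) + ((p : ℤ) - 1) : ℤ) : ℂ) := by
    push_cast
    linear_combination h1
  have h3 : (Dn P (χ : G → ℂ) (θ : ↥CP → ℂ) : ℤ) =
      (p : ℤ) * (un P (χ : G → ℂ) (θ : ↥CP → ℂ) : ℤ) + ((p : ℤ) - 1) := by exact_mod_cast h2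
  have h4 := Dn_le_charDegree P hP hχc θ hθ
  have h5 : (0 : ℤ) ≤ (p : ℤ) * (un P (χ : G → ℂ) (θ : ↥CP → ℂ) : ℤ) :=
    mul_nonneg (Int.natCast_nonneg _) (Int.natCast_nonneg _)
  have h6 : ((p : ℤ) - 1) ≤ (charDegree (χ : G → ℂ) : ℤ) := by
    have : (Dn P (χ : G → ℂ) (θ : ↥CP → ℂ) : ℤ) ≤ (charDegree (χ : G → ℂ) : ℤ) := by
      exact_mod_cast h4
    linarith
  have h7 : ((p - 1 : ℕ) : ℤ) ≤ (charDegree (χ : G → ℂ) : ℤ) := by
    rw [Nat.cast_sub (by omega)]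
    simpa using h6
  exact_mod_cast h7

include hP in
open scoped Classical in
theorem exists_blockData_aux (hM : IsPModular p M) (hp5 : 5 < p)
    (hnn : ¬ (P : Subgroup G).Normal) (χ : IrrCharacter G)
    (hfaith : ∀ g : G, (χ : G → ℂ) g = (χ : G → ℂ) 1 → g = 1)
    (hdeg : charDegree (χ : G → ℂ) = p - 2) :
    Nonempty (BlockData p P (χ : G → ℂ)) := by
  have hpp : p.Prime := hp.out
  have hMp : M.IsPrime := isPModular_isPrime hM
  have hχc : IsCharacter G (χ : G → ℂ) := IsIrrCharacter.isCharacter χ.2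
  have hdiv := dvd_card_of_card P hP
  have hsq := not_sq_dvd_of_card P hP
  have hdvd : ¬ p ∣ charDegree (χ : G → ℂ) := by
    rw [hdeg]
    exact Nat.not_dvd_of_pos_of_lt (by omega) (by omega)
  have hd := (not_dvd_iff_pos_defect hM hdiv hsq χ).mp hdvd
  obtain ⟨-, b, θ₀, hind, hθ₀b, hθ₀P⟩ :=
    Cfsg.Agent.Lib.Helper75.DefOneGen.exists_root hM P hP (isPBlock_blockOf χ) hd
  have hb : b = blockOf M (θ₀ : ↥CP → ℂ) := IsPBlock_eq_blockOf hind.1 hθ₀b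
  rw [hb] at hind
  have hθ₀ : θ₀ ∈ Theta P := (mem_Theta P θ₀).mpr hθ₀P
  have hχB : χ ∈ blockOf M (χ : G → ℂ) := self_mem_blockOf hMp.ne_top χ
  obtain ⟨y₀, hy₀⟩ := exists_ne_one_of_card P hP
  have hy₀1 : (y₀ : G) ≠ 1 := fun h => hy₀ (Subtype.ext h)
  -- the nonexceptional case is impossible
  have hX : ∀ a : ℤ, (a = 1 ∨ a = -1) → (∀ y : G, y ∈ (P : Subgroup G) → y ≠ 1 →
      fpart p CP (χ : G → ℂ) (θ₀ : ↥CP → ℂ) y = (a : ℂ)) → False := by
    intro a ha hfa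
    have hfp := fpart_of_root_const P hP hM θ₀ hθ₀ hind hχB (a : ℂ) hfa
    have hconst := const_of_xtype_lt P hP hχc (by omega) θ₀ hθ₀ a ha hfp
    exact hy₀1 (hfaith _ (hconst (y₀ : G) y₀.2))
  rcases blk_data P hP hM θ₀ hθ₀P hind with hall | ⟨he, δ, Y, ζ, hδ, hYB, hXY, hζY, hYsurj,
    hiff, hform, hdegY⟩
  · obtain ⟨a, ha, hfa⟩ := hall χ hχB
    exact (hX a ha hfa).elim
  by_cases hχY : χ ∈ Y
  swap
  · obtain ⟨a, ha, hfa⟩ := hXY χ hχB hχY
    exact (hX a ha hfa).elim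
  obtain ⟨ψ₀, hψ₀, hζψ₀⟩ := hYsurj χ hχY
  obtain ⟨-, he2, hf2, hd1, hk1, hDn⟩ := local_analysis P hP hM hp5 hnn θ₀ hθ₀ hind he δ hδ χ hχB
    ψ₀ hψ₀ (hζψ₀ ▸ hform ψ₀ hψ₀) hdeg hfaith
  have hcent := hcent_of_local P hP hM θ₀ hθ₀ hind χ hχB (by omega) hfaith hk1 hd1
    (hDn.trans hdeg.symm)
  have hθ₀1 : (θ₀ : ↥CP → ℂ) 1 = 1 := by
    rw [IsCharacter.apply_one_eq_charDegree (IsIrrCharacter.isCharacter θ₀.2), hd1]
    simp
  -- the full block data
  have h3e : 3 * (CP).relIndex (thetaStab P θ₀) ≤ p - 1 := by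
    rw [he2]
    have h6 : p ≠ 6 := by
      rintro rfl
      exact absurd hpp (by norm_num)
    omega
  obtain ⟨δ', Y', X', ζ', a', hδ', hX'mem, hY'B, hX'card, hY'card, ha'pm, hX'val, hζ'Y,
    hY'surj, hiff', hform', hreg'⟩ := blk_full P hP hM θ₀ hθ₀P hind h3e
  rw [he2] at hX'card hY'card
  have hχY' : χ ∈ Y' := by
    by_contra hc
    have hχX' : χ ∈ X' := (hX'mem χ).mpr ⟨hχB, hc⟩
    exact hX (a' χ) (ha'pm χ hχX')
      (fun y hy hy1 => hX'val χ hχX' ⟨y, hy⟩ (fun h => hy1 (congrArg Subtype.val h)))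
  obtain ⟨ψ₁, hψ₁, hζψ₁⟩ := hY'surj χ hχY'
  have hδ'm : δ' = -1 := (local_analysis P hP hM hp5 hnn θ₀ hθ₀ hind he δ' hδ' χ hχB
    ψ₁ hψ₁ (hζψ₁ ▸ hform' ψ₁ hψ₁) hdeg hfaith).1
  -- an element of `T ∖ C` inverts `P`
  obtain ⟨hTN, hT'⟩ := stab_iff_of_literal P θ₀ (thetaStab P θ₀) (mem_thetaStab P θ₀)
  have hCT := centralizer_le_of_stab P hP θ₀ (thetaStab P θ₀) hT'
  obtain ⟨n, hnT, hnC⟩ : ∃ n : G, n ∈ thetaStab P θ₀ ∧ n ∉ CP := by
    by_contra hc
    push Not at hc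
    have hle : thetaStab P θ₀ ≤ CP := fun n hn => hc n hn
    have h1 : (CP).relIndex (thetaStab P θ₀) = 1 := Subgroup.relIndex_eq_one.mpr hle
    rw [he2] at h1
    omega
  have hinv : ∀ y ∈ (P : Subgroup G), n * y * n⁻¹ = y⁻¹ :=
    conj_eq_inv_of_relIndex_two (P : Subgroup G) hP hf2 n (hTN hnT) hnC
  -- the orbit sums
  have hpodd : ∀ ψ : ↥(P : Subgroup G) →* ℂˣ, ψ ≠ 1 → ψ ≠ ψ⁻¹ := by
    intro ψ hψ h
    apply hψ
    ext y
    have h2 : (ψ y) * (ψ y) = 1 := by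
      have e : ψ y = (ψ y)⁻¹ := by
        have := congrArg (fun φ : ↥(P : Subgroup G) →* ℂˣ => φ y) h
        simpa only [MonoidHom.inv_apply] using this
      nth_rewrite 2 [e]
      exact mul_inv_cancel _
    have hp1 : (ψ y) ^ p = 1 := by
      rw [← map_pow]
      have : y ^ p = 1 := by
        have h3 : y ^ Nat.card ↥(P : Subgroup G) = 1 := pow_card_eq_one'
        rwa [show Nat.card ↥(P : Subgroup G) = p from hP] at h3
      rw [this, map_one]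
    have h22 : (ψ y) ^ 2 = 1 := by rw [pow_two]; exact h2
    have hodd : Odd p := hpp.odd_of_ne_two (by omega)
    obtain ⟨m, hm⟩ := hodd
    have h4 : (ψ y) ^ (2 * m + 1) = ψ y := by
      rw [pow_succ, pow_mul, h22, one_pow, one_mul]
    have h5 : (ψ y) ^ p = (ψ y) ^ (2 * m + 1) := congrArg (fun k => (ψ y) ^ k) hm
    rw [MonoidHom.one_apply, ← h4, ← h5, hp1]
  have hmemS : ∀ ψ ψ' : ↥(P : Subgroup G) →* ℂˣ,
      (∃ m : G, m ∈ thetaStab P θ₀ ∧
        ∀ w w' : ↥(P : Subgroup G), (w' : G) = m * (w : G) * m⁻¹ → ψ' w' = ψ w) →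
      ψ' = ψ ∨ ψ' = ψ⁻¹ := by
    rintro ψ ψ' ⟨m, hmT, hm⟩
    by_cases hmC : m ∈ CP
    · left
      ext w
      have h1 : (w : G) = m * (w : G) * m⁻¹ := by
        have := (Subgroup.mem_centralizer_iff.mp hmC) (w : G) w.2
        rw [eq_mul_inv_iff_mul_eq]
        exact this
      rw [hm w w h1]
    · right
      have hinv' := conj_eq_inv_of_relIndex_two (P : Subgroup G) hP hf2 m (hTN hmT) hmC
      ext w
      have h1 : ((w⁻¹ : ↥(P : Subgroup G)) : G) = m * (w : G) * m⁻¹ := by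
        rw [hinv' (w : G) w.2]
        rfl
      have h2 := hm w w⁻¹ h1
      rw [MonoidHom.inv_apply, ← h2, map_inv, inv_inv]
  have hSsum : ∀ ψ : ↥(P : Subgroup G) →* ℂˣ, ψ ≠ 1 → ∀ y : ↥(P : Subgroup G),
      ∑ᶠ ψ' ∈ {ψ' : ↥(P : Subgroup G) →* ℂˣ | ∃ m : G, m ∈ thetaStab P θ₀ ∧
        ∀ w w' : ↥(P : Subgroup G), (w' : G) = m * (w : G) * m⁻¹ → ψ' w' = ψ w},
        ((ψ' y : ℂˣ) : ℂ) = ((ψ y : ℂˣ) : ℂ) + (((ψ y)⁻¹ : ℂˣ) : ℂ) := by
    intro ψ hψ y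
    have hset : {ψ' : ↥(P : Subgroup G) →* ℂˣ | ∃ m : G, m ∈ thetaStab P θ₀ ∧
        ∀ w w' : ↥(P : Subgroup G), (w' : G) = m * (w : G) * m⁻¹ → ψ' w' = ψ w} =
        (({ψ, ψ⁻¹} : Finset (↥(P : Subgroup G) →* ℂˣ)) : Set (↥(P : Subgroup G) →* ℂˣ)) := by
      ext ψ'
      simp only [Set.mem_ofPred_eq, Finset.coe_insert, Finset.coe_singleton, Set.mem_insert_iff,
        Set.mem_singleton_iff]
      constructor
      · exact hmemS ψ ψ'
      · rintro (h | h)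
        · rw [h]
          refine ⟨1, Subgroup.one_mem _, ?_⟩
          intro w w' hw
          have : w' = w := Subtype.ext (by rw [hw]; simp)
          rw [this]
        · rw [h]
          refine ⟨n, hnT, ?_⟩
          intro w w' hw
          have : w' = w⁻¹ := Subtype.ext (by rw [hw, hinv (w : G) w.2]; rfl)
          rw [this, MonoidHom.inv_apply, map_inv, inv_inv]
    rw [hset, finsum_mem_coe_finset, Finset.sum_pair (hpodd ψ hψ), MonoidHom.inv_apply]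
  -- values on `P ∖ 1`
  have hvalB : ∀ Ξ : IrrCharacter G, Ξ ∈ blockOf M (χ : G → ℂ) → ∀ y : ↥(P : Subgroup G), y ≠ 1 →
      (Ξ : G → ℂ) (y : G) = fpart p CP (Ξ : G → ℂ) (θ₀ : ↥CP → ℂ) (y : G) := by
    intro Ξ hΞ y hy
    rw [apply_P_of_card_orbit_one P hP hM θ₀ hθ₀ hind hk1 Ξ hΞ y hy, hθ₀1, mul_one]
  have hvalY : ∀ ψ : ↥(P : Subgroup G) →* ℂˣ, ψ ≠ 1 → ∀ y : ↥(P : Subgroup G), y ≠ 1 →
      (ζ' ψ : G → ℂ) (y : G) = -(((ψ y : ℂˣ) : ℂ) + (((ψ y)⁻¹ : ℂˣ) : ℂ)) := by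
    intro ψ hψ y hy
    rw [hvalB (ζ' ψ) (hY'B _ (hζ'Y ψ hψ)) y hy, hform' ψ hψ y hy, hSsum ψ hψ y, hδ'm]
    push_cast
    ring
  -- the two nonexceptional characters
  obtain ⟨x₁, x₂, hx12, hX'eq⟩ := Finset.card_eq_two.mp hX'card
  have hx₁ : x₁ ∈ X' := by rw [hX'eq]; simp
  have hx₂ : x₂ ∈ X' := by rw [hX'eq]; simp
  have hone : ¬ p ∣ orderOf (1 : G) := by
    rw [orderOf_one]
    exact hpp.one_lt.ne' ∘ Nat.dvd_one.mp
  have hrelg : ∀ g : G, ¬ p ∣ orderOf g →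
      (χ : G → ℂ) g + (a' x₁ : ℂ) * (x₁ : G → ℂ) g + (a' x₂ : ℂ) * (x₂ : G → ℂ) g = 0 := by
    intro g hg
    have h1 := (hreg' g hg).2 χ hχY'
    rw [hX'eq, Finset.sum_pair hx12, hδ'm] at h1
    push_cast at h1
    linear_combination h1
  have hdx : ∀ x : IrrCharacter G, (x : G → ℂ) 1 = (charDegree (x : G → ℂ) : ℂ) :=
    fun x => IsCharacter.apply_one_eq_charDegree (IsIrrCharacter.isCharacter x.2)
  have hdpos : ∀ x : IrrCharacter G, 0 < charDegree (x : G → ℂ) :=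
    fun x => IsIrrCharacter.charDegree_pos x.2
  have hrel1 : ((p - 2 : ℕ) : ℤ) + a' x₁ * (charDegree (x₁ : G → ℂ) : ℤ) +
      a' x₂ * (charDegree (x₂ : G → ℂ) : ℤ) = 0 := by
    have h1 := hrelg 1 hone
    rw [hdx, hdx, hdx, hdeg] at h1
    have h2 : ((((p - 2 : ℕ) : ℤ) + a' x₁ * (charDegree (x₁ : G → ℂ) : ℤ) +
      a' x₂ * (charDegree (x₂ : G → ℂ) : ℤ) : ℤ) : ℂ) = ((0 : ℤ) : ℂ) := by
      push_cast
      push_cast at h1
      exact h1
    exact_mod_cast h2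
  have hnegdeg : ∀ x ∈ X', a' x = -1 → p - 1 ≤ charDegree (x : G → ℂ) := by
    intro x hx hax
    apply degree_ge_of_neg P hP θ₀ hθ₀ x
    intro y hy
    rw [hX'val x hx y hy, hax]
  -- the function-level data
  have key : ∀ χ₁ χ₂ : IrrCharacter G, χ₁ ∈ X' → χ₂ ∈ X' → a' χ₁ = 1 → a' χ₂ = -1 →
      (∀ g : G, ¬ p ∣ orderOf g → (χ₂ : G → ℂ) g = (χ₁ : G → ℂ) g + (χ : G → ℂ) g) →
      Nonempty (BlockData p P (χ : G → ℂ)) := by
    intro χ₁ χ₂ hχ₁ hχ₂ ha₁ ha₂ hrel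
    have hsurj' : ∀ f ∈ Y'.image (fun η : IrrCharacter G => (η : G → ℂ)),
        ∃ ψ : ↥(P : Subgroup G) →* ℂˣ, ψ ≠ 1 ∧ (ζ' ψ : G → ℂ) = f := by
      intro f hf
      obtain ⟨η, hη, rfl⟩ := Finset.mem_image.mp hf
      obtain ⟨ψ, hψ, hζψ⟩ := hY'surj η hη
      exact ⟨ψ, hψ, by rw [hζψ]⟩
    let ψf : (G → ℂ) → (↥(P : Subgroup G) →* ℂˣ) := fun f =>
      if h : ∃ ψ : ↥(P : Subgroup G) →* ℂˣ, ψ ≠ 1 ∧ (ζ' ψ : G → ℂ) = f then h.choose else 1
    have hψf : ∀ f ∈ Y'.image (fun η : IrrCharacter G => (η : G → ℂ)),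
        ψf f ≠ 1 ∧ (ζ' (ψf f) : G → ℂ) = f := by
      intro f hf
      have h := hsurj' f hf
      show (if h : ∃ ψ : ↥(P : Subgroup G) →* ℂˣ, ψ ≠ 1 ∧ (ζ' ψ : G → ℂ) = f
        then h.choose else 1) ≠ 1 ∧ (ζ' (if h : ∃ ψ : ↥(P : Subgroup G) →* ℂˣ,
          ψ ≠ 1 ∧ (ζ' ψ : G → ℂ) = f then h.choose else 1) : G → ℂ) = f
      rw [dif_pos h]
      exact h.choose_spec
    refine ⟨{ Y := Y'.image (fun η : IrrCharacter G => (η : G → ℂ))
              ψ := ψf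
              χ₁ := (χ₁ : G → ℂ)
              χ₂ := (χ₂ : G → ℂ)
              hcent := hcent
              hidx := hf2
              hYirr := ?_
              hζY := Finset.mem_image.mpr ⟨χ, hχY', rfl⟩
              hYcard := ?_
              hYreg := ?_
              hψ1 := fun f hf => (hψf f hf).1
              hψinj := ?_
              hYval := ?_
              hχ₁ := χ₁.2
              hχ₂ := χ₂.2
              hχ₁P := ?_
              hrel := hrel }⟩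
    · intro f hf
      obtain ⟨η, -, rfl⟩ := Finset.mem_image.mp hf
      exact η.2
    · rw [Finset.card_image_of_injective _ Subtype.val_injective]
      omega
    · intro f hf g hg
      obtain ⟨η, hη, rfl⟩ := Finset.mem_image.mp hf
      exact (hreg' g hg).1 η hη χ hχY'
    · intro f hf f' hf' hor
      obtain ⟨h1, h2⟩ := hψf f hf
      obtain ⟨h1', h2'⟩ := hψf f' hf'
      rcases hor with h | h
      · rw [← h2, ← h2', h]
      · have heq : ζ' (ψf f') = ζ' (ψf f) := by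
          rw [hiff' (ψf f') (ψf f) h1' h1]
          refine ⟨n, hnT, ?_⟩
          intro w w' hw
          have : w' = w⁻¹ := Subtype.ext (by rw [hw, hinv (w : G) w.2]; rfl)
          rw [this, h, MonoidHom.inv_apply, map_inv, inv_inv]
        rw [← h2, ← h2', heq]
    · intro f hf y hy
      obtain ⟨h1, h2⟩ := hψf f hf
      have := hvalY (ψf f) h1 y hy
      rw [h2] at this
      exact this
    · intro y hy hy1
      have hy' : (⟨y, hy⟩ : ↥(P : Subgroup G)) ≠ 1 := fun h => hy1 (congrArg Subtype.val h)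
      have := hvalB χ₁ ((hX'mem χ₁).mp hχ₁).1 ⟨y, hy⟩ hy'
      rw [hX'val χ₁ hχ₁ ⟨y, hy⟩ hy', ha₁] at this
      simpa using this
  -- the signs
  rcases ha'pm x₁ hx₁ with h1 | h1 <;> rcases ha'pm x₂ hx₂ with h2 | h2
  · exfalso
    rw [h1, h2] at hrel1
    have := hdpos x₁
    have := hdpos x₂
    have h0 : (0 : ℤ) ≤ ((p - 2 : ℕ) : ℤ) := Int.natCast_nonneg _
    omega
  · apply key x₁ x₂ hx₁ hx₂ h1 h2
    intro g hg
    have := hrelg g hg
    rw [h1, h2] at this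
    push_cast at this
    linear_combination -this
  · apply key x₂ x₁ hx₂ hx₁ h2 h1
    intro g hg
    have := hrelg g hg
    rw [h1, h2] at this
    push_cast at this
    linear_combination -this
  · exfalso
    rw [h1, h2] at hrel1
    have hd1' := hnegdeg x₁ hx₁ h1
    have hd2' := hnegdeg x₂ hx₂ h2
    have h3 : ((p - 2 : ℕ) : ℤ) = (p : ℤ) - 2 := by
      rw [Nat.cast_sub (by omega)]; simp
    have h4 : ((p - 1 : ℕ) : ℤ) = (p : ℤ) - 1 := by
      rw [Nat.cast_sub (by omega)]; simp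
    have h5 : ((p - 1 : ℕ) : ℤ) ≤ (charDegree (x₁ : G → ℂ) : ℤ) := by exact_mod_cast hd1'
    have h6 : ((p - 1 : ℕ) : ℤ) ≤ (charDegree (x₂ : G → ℂ) : ℤ) := by exact_mod_cast hd2'
    have hpz : (5 : ℤ) < (p : ℤ) := by exact_mod_cast hp5
    omega

end PData

/-- **[P-DATA]** -/
theorem exists_blockData {G : Type u} [Group G] [Finite G] {p : ℕ} [Fact p.Prime] (hp : 5 < p)
    (P : Sylow p G) (hP : Nat.card P = p) (hnn : ¬ (P : Subgroup G).Normal) (ζ : G → ℂ)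
    (hζ : IsIrrCharacter G ζ) (hfaith : ∀ g : G, ζ g = ζ 1 → g = 1)
    (hdeg : charDegree ζ = p - 2) : Nonempty (BlockData p P ζ) := by
  have hpp : p.Prime := Fact.out
  have hfinG : Fintype G := Fintype.ofFinite G
  have hfinC : Fintype ↥(Subgroup.centralizer ((P : Subgroup G) : Set G)) := Fintype.ofFinite _
  have hfinP : Fintype ↥(P : Subgroup G) := Fintype.ofFinite _
  have hfinN : Fintype ↥(Subgroup.normalizer ((P : Subgroup G) : Set G)) := Fintype.ofFinite _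
  have hcyc : IsCyclic ↥(P : Subgroup G) := isCyclic_of_prime_card hP
  have hab : IsMulCommutative ↥(P : Subgroup G) := IsCyclic.isMulCommutative
  have hfinD : Fintype (↥(P : Subgroup G) →* ℂˣ) := Fintype.ofFinite _
  obtain ⟨M, hM⟩ := Cfsg.Agent.Lib.Helper75.exists_isPModular p hpp
  exact exists_blockData_aux P hP hM hp hnn ⟨ζ, hζ⟩ hfaith hdeg

end Cfsg.Agent.Lib.Helper17.S4705
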