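import Mathlib
import Cfsg.Prelude.Def_Characters
import Cfsg.Prelude.Def_Blocks
import Cfsg.Agent.Lib.Helper17.PM2.Defs

set_option autoImplicit false

/-!
# S4705-[R] (helper17): the relation `ζ(g)² − ζ(g²) = (p − 3) ζ(g^k)` on `p`-regular elements.
-/

namespace Cfsg.Agent.Lib.Helper17.S4705

open Cfsg Cfsg.Agent.Lib.Helper17.PM2
open scoped ComplexConjugate

universe u

variable {G : Type u} [Group G] [Fintype G] {p : ℕ} (S : Setting G p)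

theorem R_rel
    (halt : ∀ g : G, altSq S.ζ g = ∑ η ∈ S.D.Y, powFun S.k η g - powFun S.k S.ζ g)
    (g : G) (hg : ¬ p ∣ orderOf g) :
    S.ζ g ^ 2 - S.ζ (g ^ 2) = ((p : ℂ) - 3) * S.ζ (g ^ S.k) := by
  have hgk : ¬ p ∣ orderOf (g ^ S.k) := fun h => hg (h.trans (orderOf_pow_dvd S.k))
  have h1 := halt g
  have h2 : ∑ η ∈ S.D.Y, powFun S.k η g = (S.D.Y.card : ℂ) * S.ζ (g ^ S.k) := by
    have h0 : ∀ η ∈ S.D.Y, powFun S.k η g = S.ζ (g ^ S.k) :=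
      fun η hη => S.D.hYreg η hη (g ^ S.k) hgk
    rw [Finset.sum_congr rfl h0, Finset.sum_const, nsmul_eq_mul]
  have h3 : (2 : ℂ) * (S.D.Y.card : ℂ) + 1 = (p : ℂ) := by exact_mod_cast S.D.hYcard
  unfold altSq at h1
  unfold powFun at h1 h2
  rw [h2] at h1
  have h4 : S.ζ g ^ 2 - S.ζ (g ^ 2) =
      2 * ((S.D.Y.card : ℂ) * S.ζ (g ^ S.k) - S.ζ (g ^ S.k)) := by
    rw [← h1]
    ring
  rw [h4, ← h3]
  ring

end Cfsg.Agent.Lib.Helper17.S4705
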