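import Mathlib
import Cfsg.Prelude.Def_Characters
import Cfsg.Prelude.Def_Blocks
import Cfsg.Agent.Lib.Helper92.S4504.CIrr
import Cfsg.Agent.Lib.Helper75.Clifford

set_option autoImplicit false

/-!
# S4705-[RED-IRR] (helper17): the restriction of a faithful irreducible character of degree
`p - 2` to the normal closure of a (non-normal) Sylow `p`-subgroup of order `p` is irreducible.

Adapted from helper92's `restrict_normalClosure_irr` (S4504-[C-IRR]), with Clifford's theorem
(`Helper75.clifford_conj`) for the equality of the degrees of the constituents.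
-/

namespace Cfsg.Agent.Lib.Helper17.S4705

open Cfsg Cfsg.Agent.Lib.Helper78 Cfsg.Agent.Lib.Helper80 Cfsg.Agent.Lib.Helper25.BrauerEnd
  Cfsg.Agent.Lib.Helper92.S4504

universe u

theorem restrict_irr {G : Type u} [Group G] [Finite G] {p : ℕ} [Fact p.Prime] (hp : 5 < p)
    (P : Sylow p G) (hP : Nat.card P = p) (hnn : ¬ (P : Subgroup G).Normal) (ζ : G → ℂ)
    (hζ : IsIrrCharacter G ζ) (hfaith : ∀ g : G, ζ g = ζ 1 → g = 1)
    (hdeg : charDegree ζ = p - 2) (L : Subgroup G)
    (hL : L = Subgroup.normalClosure ((P : Subgroup G) : Set G)) :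
    IsIrrCharacter L (fun h : L => ζ h) := by
  classical
  have hpp : p.Prime := Fact.out
  have hLn : L.Normal := hL ▸ Subgroup.normalClosure_normal
  have hPL : (P : Subgroup G) ≤ L := hL ▸ Subgroup.le_normalClosure
  obtain ⟨Q⟩ : Nonempty (Sylow p L) := Sylow.nonempty
  have hQcard : Nat.card Q = p := cIrr_card_sylow P hP L hPL Q
  have h2 : Subgroup.normalClosure ((Q : Subgroup L) : Set L) = ⊤ :=
    cIrr_normalClosure_eq_top P L hL Q
  have h3 : ∀ Ξ : IrrCharacter L,
      (∀ y : L, y ∈ (Q : Subgroup L) → (Ξ : L → ℂ) y = (Ξ : L → ℂ) 1) →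
        ∀ g : L, (Ξ : L → ℂ) g = 1 :=
    fun Ξ h => cIrr_trivial_of_sylow Q h2 Ξ h
  let _ : Fintype G := Fintype.ofFinite G
  let _ : Fintype L := Fintype.ofFinite L
  have hζc : IsCharacter G ζ := isCharacter_of_isIrr hζ
  have hχL : IsCharacter L (fun h : L => ζ h) := isCharacter_restrict L hζc
  have hdegL : charDegree (fun h : L => ζ h) = p - 2 := hdeg
  by_contra hirr
  obtain ⟨m, hm⟩ := (isCharacter_iff_exists_nat_combination (fun h : L => ζ h)).1 hχL
  have hmi : ∀ ψ : IrrCharacter L, classInner (fun h : L => ζ h) (ψ : L → ℂ) = (m ψ : ℂ) := by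
    intro ψ
    conv_lhs => rw [hm]
    exact classInner_nat_combination (fun φ => (m φ : ℂ)) ψ
  have hdegψ : ∀ ψ : IrrCharacter L, (ψ : L → ℂ) 1 = (charDegree (ψ : L → ℂ) : ℂ) :=
    fun ψ => char_one_eq_charDegree (isCharacter_of_isIrr ψ.2)
  have hdegsum : charDegree (fun h : L => ζ h) =
      ∑ ψ : IrrCharacter L, m ψ * charDegree (ψ : L → ℂ) := by
    apply charDegree_natCast
    refine (congrFun hm 1).trans ?_
    simp only [Finset.sum_apply, Pi.smul_apply, smul_eq_mul, hdegψ]
    push_cast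
    rfl
  -- Clifford: all constituents have the same degree
  have hsame : ∀ ψ φ : IrrCharacter L, m ψ ≠ 0 → m φ ≠ 0 →
      charDegree (ψ : L → ℂ) = charDegree (φ : L → ℂ) := by
    intro ψ φ hψ hφ
    have h1 : classInner (fun n : L => ζ n) (ψ : L → ℂ) ≠ 0 := by
      rw [hmi]; exact_mod_cast hψ
    have h1' : classInner (fun n : L => ζ n) (φ : L → ℂ) ≠ 0 := by
      rw [hmi]; exact_mod_cast hφ
    obtain ⟨g, hg⟩ := Cfsg.Agent.Lib.Helper75.clifford_conj L hζ ψ.2 φ.2 h1 h1'
    have h4 : (φ : L → ℂ) 1 = (ψ : L → ℂ) 1 := by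
      rw [← hg, Cfsg.Agent.Lib.Helper75.conjFun_apply]
      have h5 : (⟨g * ((1 : L) : G) * g⁻¹, hLn.conj_mem _ (1 : L).2 g⟩ : L) = 1 := by
        apply Subtype.ext
        simp
      rw [h5]
    unfold charDegree
    rw [h4]
  have hlin : ∀ ψ : IrrCharacter L, m ψ ≠ 0 → charDegree (ψ : L → ℂ) = 1 := by
    intro ψ hψ
    apply Cfsg.Agent.Lib.Helper75.BrauerHalf.main_lemma hpp Q hQcard h3 ψ
    by_contra hge
    rw [not_lt] at hge
    -- the degree sum is `(∑ m) * d`
    have hsum : ∑ φ : IrrCharacter L, m φ * charDegree (φ : L → ℂ) =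
        (∑ φ : IrrCharacter L, m φ) * charDegree (ψ : L → ℂ) := by
      rw [Finset.sum_mul]
      apply Finset.sum_congr rfl
      intro φ _
      by_cases hφ : m φ = 0
      · rw [hφ, zero_mul, zero_mul]
      · rw [hsame φ ψ hφ hψ]
    have hMpos : m ψ ≤ ∑ φ : IrrCharacter L, m φ :=
      Finset.single_le_sum (f := fun φ => m φ) (fun _ _ => Nat.zero_le _) (Finset.mem_univ ψ)
    have hM1 : ∑ φ : IrrCharacter L, m φ = 1 := by
      by_contra hne
      have hM2 : 2 ≤ ∑ φ : IrrCharacter L, m φ := by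
        have : 1 ≤ m ψ := Nat.pos_of_ne_zero hψ
        omega
      have h5 : 2 * charDegree (ψ : L → ℂ) ≤
          (∑ φ : IrrCharacter L, m φ) * charDegree (ψ : L → ℂ) :=
        Nat.mul_le_mul_right _ hM2
      rw [← hsum, ← hdegsum, hdegL] at h5
      omega
    have hge' : charDegree (fun h : L => ζ h) ≤ charDegree (ψ : L → ℂ) := by
      rw [hdegsum, hsum, hM1, one_mul]
    have := cIrr_eq_of_degree (fun h : L => ζ h) m hm hdegsum ψ hψ hge'
    exact hirr (this ▸ ψ.2)
  -- `L` is commutative
  have hcomm : ∀ g h : L, g * h = h * g := by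
    intro g h
    have hone : g * h * g⁻¹ * h⁻¹ = 1 := by
      have h1 : ((g * h * g⁻¹ * h⁻¹ : L) : G) = 1 := by
        apply hfaith
        show (fun x : L => ζ x) (g * h * g⁻¹ * h⁻¹) = (fun x : L => ζ x) 1
        rw [hm]
        simp only [Finset.sum_apply, Pi.smul_apply, smul_eq_mul]
        apply Finset.sum_congr rfl
        intro ψ _
        by_cases hψ : m ψ = 0
        · rw [hψ]; simp
        · have h1 : (ψ : L → ℂ) 1 = 1 := by rw [hdegψ, hlin ψ hψ]; simp
          obtain ⟨φ, hφ⟩ := Cfsg.Agent.Lib.Helper77.exists_monoidHom_of_degree_one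
            (isCharacter_of_isIrr ψ.2) h1
          rw [hφ, hφ]
          simp
      exact Subtype.ext h1
    have := congrArg (fun z => z * h * g) hone
    simpa [mul_assoc] using this
  -- the Sylow subgroup `Q` of `L` is normal in `L`, hence characteristic, hence normal in `G`
  have hQn : (Q : Subgroup L).Normal := by
    refine ⟨fun x hx g => ?_⟩
    rw [hcomm g x, mul_assoc, mul_inv_cancel, mul_one]
    exact hx
  have : (Q : Subgroup L).Characteristic := Sylow.characteristic_of_normal Q hQn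
  have hnorm : ((Q : Subgroup L).map L.subtype).Normal :=
    ConjAct.normal_of_characteristic_of_normal
  have hcard : Nat.card ((Q : Subgroup L).map L.subtype) = p := by
    have h1 : Nat.card ((Q : Subgroup L).map L.subtype) = Nat.card Q := Nat.card_congr
      (Subgroup.equivMapOfInjective (Q : Subgroup L) L.subtype L.subtype_injective).symm.toEquiv
    rw [h1, hQcard]
  -- a normal subgroup of order `p` is contained in `P`, hence equal to it
  apply hnn
  set K : Subgroup G := (Q : Subgroup L).map L.subtype with hK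
  have hKp : IsPGroup p K := IsPGroup.of_card (n := 1) (by rw [hcard, pow_one])
  obtain ⟨P', hP'⟩ := hKp.exists_le_sylow
  obtain ⟨g, hg⟩ := MulAction.exists_smul_eq G P' P
  have hKP : K ≤ (P : Subgroup G) := by
    intro x hx
    rw [← hg, Cfsg.Agent.Lib.Helper34.mem_sylow_smul_iff]
    apply hP'
    exact hnorm.conj_mem x hx g⁻¹ |> fun h => by simpa using h
  have hKeq : K = (P : Subgroup G) := by
    have : Finite (P : Subgroup G) := inferInstance
    apply Subgroup.eq_of_le_of_card_ge hKP
    rw [hcard]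
    exact hP.le
  rw [← hKeq]
  exact hnorm

end Cfsg.Agent.Lib.Helper17.S4705
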